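import Mathlib
import Cfsg.Agent.H1.Cores
import Cfsg.Agent.H86.Sylow

/-!
The module `U / U^p` of a normal abelian `p`-subgroup `U`, the group induced on it, and the two
facts that identify its kernel.
-/

set_option autoImplicit false
set_option linter.unusedSectionVars false

open Subgroup
open scoped IsMulCommutative

namespace H88.WeakClosure

universe u

/-- An automorphism trivial modulo `p`-th powers is, after raising to a power of `p`, trivial
modulo higher powers. -/
theorem pow_triv_mod {U : Type*} [CommGroup U] {p : ℕ} (f : MulAut U)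
    (hf : ∀ v, ∃ w, f v = v * w ^ p) (i : ℕ) :
    ∀ v, ∃ w, (f ^ p ^ i) v = v * w ^ p ^ (i + 1) := by
  induction i with
  | zero => simpa using hf
  | succ i ih =>
    intro v
    set h := f ^ p ^ i with hh
    obtain ⟨w, hw⟩ := ih v
    obtain ⟨w', hw'⟩ := ih w
    set a := w ^ p ^ (i + 1) with ha
    set b := w' ^ p ^ i with hb
    have hha : h a = a * b ^ p ^ (i + 2) := by
      rw [ha, map_pow, hw', mul_pow, hb, ← pow_mul, ← pow_mul, ← pow_add, ← pow_add]
      congr 3
      ring
    have key : ∀ j : ℕ, ∃ c, (h ^ j) v = v * a ^ j * c ^ p ^ (i + 2) := by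
      intro j
      induction j with
      | zero => exact ⟨1, by simp⟩
      | succ j ihj =>
        obtain ⟨c, hc⟩ := ihj
        refine ⟨b ^ j * h c, ?_⟩
        rw [pow_succ', MulAut.mul_apply, hc, map_mul, map_mul, map_pow h a j, map_pow h c, hw, hha,
          mul_pow, mul_pow, pow_succ' a j, ← pow_mul b, ← pow_mul b, mul_comm j]
        simp only [mul_assoc]
    obtain ⟨c, hc⟩ := key p
    refine ⟨w * c, ?_⟩
    rw [pow_succ, pow_mul, ← hh, hc, mul_pow, mul_assoc, ha, ← pow_mul, ← pow_succ]

/-- A normal subgroup that is a `p`-group modulo `C(T^G)` centralises the conjugates of a central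
subgroup `T` of a Sylow subgroup. -/
theorem normal_le_of_pow_mem {G : Type u} [Group G] [Finite G] {p : ℕ} [Fact p.Prime] (P : Sylow p G)
    {T K C : Subgroup G} [K.Normal] [C.Normal] (hPT : ∀ s ∈ P, ∀ t ∈ T, s * t = t * s)
    (hCT : ∀ c ∈ C, ∀ t ∈ T, c * t = t * c) (hC : ∀ g : G, (∀ (a : G), ∀ t ∈ T,
      g * (a * t * a⁻¹) = (a * t * a⁻¹) * g) → g ∈ C)
    (hK : ∀ k ∈ K, ∃ n, k ^ p ^ n ∈ C) : K ≤ C := by
  obtain ⟨R, hR⟩ := H86.exists_sylow_inf_normal P K
  have hq : IsPGroup p (↥K ⧸ C.subgroupOf K) := by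
    intro x
    obtain ⟨k, rfl⟩ := QuotientGroup.mk_surjective x
    obtain ⟨n, hn⟩ := hK k k.2
    exact ⟨n, by rw [← QuotientGroup.mk_pow, QuotientGroup.eq_one_iff]; exact hn⟩
  obtain ⟨n, hn⟩ := IsPGroup.iff_card.1 hq
  have h1 : ((R : Subgroup K) ⊔ C.subgroupOf K).index ∣ p ^ n :=
    hn ▸ Subgroup.index_dvd_of_le le_sup_right
  have h2 : ¬ p ∣ ((R : Subgroup K) ⊔ C.subgroupOf K).index := fun h =>
    R.not_dvd_index (h.trans (Subgroup.index_dvd_of_le le_sup_left))
  obtain ⟨m, -, hm⟩ := (Nat.dvd_prime_pow (Fact.out : p.Prime)).1 h1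
  have htop : (R : Subgroup K) ⊔ C.subgroupOf K = ⊤ := by
    rcases m.eq_zero_or_pos with rfl | h
    · exact Subgroup.index_eq_one.1 (by simpa using hm)
    · exact absurd (hm ▸ dvd_pow_self p h.ne') h2
  let Z : Subgroup K := (centralizer (T : Set G)).subgroupOf K
  have hZ : (R : Subgroup K) ⊔ C.subgroupOf K ≤ Z := by
    refine sup_le (fun x hx => mem_subgroupOf.2 ?_) (fun x hx => mem_subgroupOf.2 ?_) <;>
      rw [mem_centralizer_iff] <;> intro t ht
    · rw [hR, mem_subgroupOf] at hx; exact (hPT _ hx t ht).symm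
    · exact (hCT _ (mem_subgroupOf.1 hx) t ht).symm
  intro k hk
  refine hC k fun a t ht => ?_
  have hk' : a⁻¹ * k * a ∈ K := by
    simpa using (inferInstance : K.Normal).conj_mem k hk a⁻¹
  have h3 := mem_centralizer_iff.1 (mem_subgroupOf.1 (hZ (htop.ge (mem_top ⟨_, hk'⟩)))) t ht
  calc k * (a * t * a⁻¹) = a * (a⁻¹ * k * a * t) * a⁻¹ := by group
    _ = a * (t * (a⁻¹ * k * a)) * a⁻¹ := by rw [h3]
    _ = _ := by group

variable {G : Type u} [Group G] (p : ℕ) (U : Subgroup G) [IsMulCommutative U]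

/-- The `p`-th powers, additively. -/
noncomputable def pw : AddSubgroup (Additive U) := (nsmulAddMonoidHom (α := Additive U) p).range

/-- The module `U / U^p`. -/
abbrev Md : Type u := Additive U ⧸ pw p U

variable {U} in
/-- The class of an element of `U`. -/
noncomputable def cls (v : U) : Md p U := QuotientAddGroup.mk (Additive.ofMul v)

variable {p U}

theorem cls_surjective : Function.Surjective (cls p : U → Md p U) := fun x => by
  obtain ⟨a, rfl⟩ := QuotientAddGroup.mk_surjective x
  exact ⟨a.toMul, rfl⟩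

theorem cls_mul (v w : U) : cls p (v * w) = cls p v + cls p w := rfl

theorem cls_inv (v : U) : cls p v⁻¹ = -cls p v := rfl

theorem cls_one : cls p (1 : U) = 0 := rfl

theorem cls_eq_zero {v : U} : cls p v = 0 ↔ ∃ w : U, w ^ p = v := by
  rw [cls, QuotientAddGroup.eq_zero_iff, pw, AddMonoidHom.mem_range]
  exact ⟨fun ⟨w, hw⟩ => ⟨w.toMul, congrArg Additive.toMul hw⟩,
    fun ⟨w, hw⟩ => ⟨Additive.ofMul w, congrArg Additive.ofMul hw⟩⟩

theorem nsmul_md (x : Md p U) : p • x = 0 := by
  obtain ⟨v, rfl⟩ := cls_surjective x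
  rw [show p • cls p v = cls p (v ^ p) from rfl, cls_eq_zero]
  exact ⟨v, rfl⟩

theorem card_eq [Finite U] : Nat.card U = Nat.card (Md p U) * Nat.card (pw p U) :=
  AddSubgroup.card_eq_card_quotient_mul_card_addSubgroup (pw p U)

variable (p U) [U.Normal]

/-- The endomorphism of the module induced by conjugation. -/
noncomputable def endo (g : G) : AddMonoid.End (Md p U) :=
  QuotientAddGroup.map (pw p U) (pw p U)
    (MonoidHom.toAdditive (MulAut.conjNormal (H := U) g).toMonoidHom) (by
      rintro _ ⟨w, rfl⟩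
      exact ⟨MonoidHom.toAdditive (MulAut.conjNormal (H := U) g).toMonoidHom w,
        (map_nsmul _ _ _).symm⟩)

theorem endo_cls (g : G) (v : U) : endo p U g (cls p v) = cls p (MulAut.conjNormal g v) := rfl

/-- The representation on the module. -/
noncomputable def endoHom : G →* AddMonoid.End (Md p U) where
  toFun := endo p U
  map_one' := AddMonoidHom.ext fun x => by
    obtain ⟨v, rfl⟩ := cls_surjective x
    show endo p U 1 (cls p v) = cls p v
    rw [endo_cls, map_one, MulAut.one_apply]
  map_mul' g h := AddMonoidHom.ext fun x => by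
    obtain ⟨v, rfl⟩ := cls_surjective x
    show endo p U (g * h) (cls p v) = endo p U g (endo p U h (cls p v))
    rw [endo_cls, endo_cls, endo_cls, map_mul, MulAut.mul_apply]

/-- The group induced on the module. -/
noncomputable abbrev Gp : Subgroup (AddMonoid.End (Md p U))ˣ := (endoHom p U).toHomUnits.range

/-- The projection to the induced group. -/
noncomputable def rho : G →* Gp p U := (endoHom p U).toHomUnits.rangeRestrict

variable {p U}

theorem rho_surjective : Function.Surjective (rho p U) := MonoidHom.rangeRestrict_surjective _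

instance finite_Gp [Finite G] : Finite (Gp p U) :=
  Finite.of_surjective _ (rho_surjective (p := p) (U := U))

theorem smul_cls (g : G) (v : U) : rho p U g • cls p v = cls p (MulAut.conjNormal g v) := rfl

theorem rho_eq_one {g : G} :
    rho p U g = 1 ↔ ∀ v : U, ∃ w : U, MulAut.conjNormal g v = v * w ^ p := by
  constructor
  · intro h v
    have h1 := smul_cls (p := p) g v
    rw [h, one_smul, eq_comm, ← sub_eq_zero, sub_eq_add_neg, ← cls_inv, ← cls_mul,
      cls_eq_zero] at h1
    obtain ⟨w, hw⟩ := h1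
    exact ⟨w, by rw [hw, mul_comm (MulAut.conjNormal g v), mul_inv_cancel_left]⟩
  · intro h
    refine Subtype.ext (Units.ext (AddMonoidHom.ext fun x => ?_))
    obtain ⟨v, rfl⟩ := cls_surjective x
    obtain ⟨w, hw⟩ := h v
    show rho p U g • cls p v = cls p v
    rw [smul_cls, hw, cls_mul, cls_eq_zero.2 ⟨w, rfl⟩, add_zero]

/-- An element of the kernel has a `p`-power power centralising `U`. -/
theorem exists_pow_centralizing [Fact p.Prime] [Finite U] (hU : IsPGroup p U) {g : G} (hg : rho p U g = 1) :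
    ∃ n, g ^ p ^ n ∈ centralizer (U : Set G) := by
  obtain ⟨n, hc⟩ := IsPGroup.iff_card.1 hU
  have hn : ∀ w : U, w ^ p ^ n = 1 := fun w => by rw [← hc]; exact pow_card_eq_one'
  refine ⟨n, mem_centralizer_iff.2 fun v hv => ?_⟩
  obtain ⟨w, hw⟩ := pow_triv_mod (U := U) (MulAut.conjNormal g) (rho_eq_one.1 hg) n ⟨v, hv⟩
  rw [pow_succ, pow_mul, ← pow_mul, mul_comm (p ^ n) p, pow_mul, hn, mul_one, ← map_pow] at hw
  have := congrArg Subtype.val hw
  rw [MulAut.conjNormal_apply] at this
  calc v * g ^ p ^ n = g ^ p ^ n * v * (g ^ p ^ n)⁻¹ * g ^ p ^ n := by rw [this]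
    _ = g ^ p ^ n * v := by group

end H88.WeakClosure
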