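import Mathlib
import Cfsg.Agent.H80.LinMain

/-!
In the setting of the linear offender analysis: the torus of a member's block lies in the maximal
subgroup, and no normal subgroup containing a member does.
-/

set_option autoImplicit false
set_option linter.unusedSectionVars false

open Subgroup H73
open scoped MatrixGroups

namespace H88.WeakClosure

open H80.LFF

universe uH uV

variable {p : ℕ} [Fact p.Prime] {H : Type uH} [Group H] [Finite H] {V : Type uV} [AddCommGroup V]
  [Finite V] [DistribMulAction H V] [FaithfulSMul H V] {T M : Subgroup H}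

/-- The torus of a member in the Sylow subgroup lies in the maximal subgroup. -/
theorem d_mem (hyp : Hyp p V T M) {D : Subgroup H} (hD : Mem V D) (hDT : D ≤ T) (B : Blk V D)
    (t : B.Fˣ) : B.d t ∈ M := by
  have hdD : cj (B.d t) D ≤ D := by
    intro x hx
    obtain ⟨y, hy, rfl⟩ := hx
    obtain ⟨s, rfl⟩ := B.exists_u hy
    have h1 : B.d t * B.u s = B.u ((t : B.F) * t * s) * B.d t := B.ext_smul fun a b c => by
      rw [mul_smul, mul_smul, B.u_apply, B.d_apply, B.d_apply, B.u_apply]
      congr 3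
      have : (t : B.F) * ((t⁻¹ : B.Fˣ) : B.F) = 1 := Units.mul_inv t
      linear_combination (-(t : B.F) * s * b) * this
    show MulAut.conj (B.d t) (B.u s) ∈ D
    rw [MulAut.conj_apply, h1, mul_inv_cancel_right]
    exact B.u_mem _
  have hcen : ∀ E, Mem V E → E ≤ T → cj (B.d t) E ≤ hyp.U := by
    intro E hE hET
    rcases eq_or_ne E D with rfl | hne
    · exact hdD.trans (hyp.le_U hE hET)
    · intro x hx
      obtain ⟨y, hy, rfl⟩ := hx
      obtain ⟨hW, hC⟩ := hyp.pair hD B hE (Ne.symm hne) (hyp.members_comm hD hDT hE hET) y hy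
      show MulAut.conj (B.d t) y ∈ hyp.U
      have h2 : B.d t * y = y * B.d t := (B.comm_X hW hC _).symm
      rw [MulAut.conj_apply, h2, mul_inv_cancel_right]
      exact hyp.le_U hE hET hy
  have hconj : ∀ g : H, (∀ E, Mem V E → E ≤ T → cj g E ≤ hyp.U) →
      g ∈ normalizer (hyp.U : Set H) := by
    intro g hg
    refine mem_normalizer_iff_cj.2 (Subgroup.eq_of_le_of_card_ge ?_ (card_cj g hyp.U).ge)
    rw [cj_le_iff]
    exact sSup_le fun E hE => cj_le_iff.1 (hg E hE.1 hE.2)
  have hTN : T ≤ normalizer (hyp.U : Set H) := fun s hs => hconj s fun E hE hET =>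
    hyp.le_U (hE.cn s) (cj_le_of_mem hs hET)
  have hdN : B.d t ∈ normalizer (hyp.U : Set H) := hconj _ hcen
  by_contra hd
  have htop := hyp.uniq _ hTN fun h => hd (h hdN)
  have h0 : D ≤ opc p (⊤ : Subgroup H) :=
    (hyp.le_U hD hDT).trans (le_opc le_top (hyp.Tp.to_le hyp.U_le) htop.ge)
  rw [hyp.core] at h0
  exact hD.ne_bot (le_bot_iff.1 h0)

/-- A subgroup of `SL₂` containing the upper root group and normalised by everything is the whole
group. -/
theorem sl2_normal_eq_top {F : Type} [Field F] (K : Subgroup SL(2, F)) [hK : K.Normal]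
    (hu : ∀ t : F, H74.SL2.uT t ∈ K) : K = ⊤ := by
  rw [eq_top_iff, ← H98.upper_sup_lower (k := F)]
  have hupper : ∀ g : SL(2, F), ent g 1 0 = 0 → ent g 0 0 = 1 → g ∈ K := fun g h1 h0 =>
    eq_uT h0 h1 ▸ hu _
  refine sup_le ((Subgroup.closure_le _).2 fun g hg => hupper g hg.1 hg.2.1)
    ((Subgroup.closure_le _).2 fun g hg => ?_)
  obtain ⟨h1, h0, h2⟩ := hg
  have h3 : rot F * g * (rot F)⁻¹ ∈ K := by
    refine hupper _ ?_ ?_ <;>
      simp [ent, coe_rot, Matrix.SpecialLinearGroup.coe_inv, Matrix.adjugate_fin_two,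
        Matrix.mul_apply, Matrix.vecMul, dotProduct, Fin.sum_univ_two, h1, h2]
  have := hK.conj_mem _ h3 (rot F)⁻¹
  simpa [mul_assoc] using this

/-- No normal subgroup containing a member lies in the maximal subgroup. -/
theorem normal_not_le (hyp : Hyp p V T M) {K : Subgroup H} [hK : K.Normal] {A : Subgroup H}
    (hA : Mem V A) (hAK : A ≤ K) : ¬ K ≤ M := by
  obtain ⟨D, ⟨-, hDK⟩, -, B, hB⟩ := hyp.exists_blk_of_class {D | Mem V D ∧ D ≤ K}
    (fun D hD g => ⟨hD.1.cn g, by
      rintro _ ⟨y, hy, rfl⟩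
      exact hK.conj_mem y (hD.2 hy) g⟩) (fun D hD => hD.1) ⟨hA, hAK⟩
  refine fun hKM => hB (le_trans (fun x hx => ?_) hKM)
  obtain ⟨g, rfl⟩ := B.range_eq.ge hx
  have h := sl2_normal_eq_top (K.comap B.ι) fun t => hDK ((B.mem_iff _).2 ⟨t, rfl⟩)
  exact h.ge (mem_top g)

end H88.WeakClosure
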