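import Mathlib
import Cfsg.Agent.H88.WeakClosure.Module
import Cfsg.Agent.H88.WeakClosure.Torus
import Cfsg.Agent.H11.MaxFam
import Cfsg.Agent.H11.PConstrained
import Cfsg.Agent.H74.ThompsonABasic

/-!
The module of the conjugates of a central subgroup `T` of a Sylow subgroup in a minimal group
where `N(J)` normalises `T` but the group does not: an offender exists, and the `p`-th powers are
central.
-/

set_option autoImplicit false
set_option linter.unusedSectionVars false

open Subgroup H73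
open scoped IsMulCommutative

namespace H88.WeakClosure

open H80.LFF

universe u

variable {G : Type u} [Group G] {p : ℕ} [Fact p.Prime]

/-- A minimal configuration. -/
structure Cfg (P : Sylow p G) (T U : Subgroup G) : Prop where
  two : p ≠ 2
  TP : T ≤ (P : Subgroup G)
  PT : ∀ s ∈ P, ∀ t ∈ T, s * t = t * s
  TU : T ≤ U
  UP : U ≤ (P : Subgroup G)
  gen : U ≤ Subgroup.closure {x : G | ∃ g : G, ∃ t ∈ T, g * t * g⁻¹ = x}
  notNormal : ¬ T.Normal
  nJ : normalizer (Cfsg.thompsonSubgroupAOf (P : Subgroup G) : Set G) ≤ normalizer (T : Set G)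
  min : ∀ Y : Subgroup G, (P : Subgroup G) ≤ Y → ¬ Y ≤ normalizer (T : Set G) → Y = ⊤

namespace Cfg

variable [Finite G] {P : Sylow p G} {T U : Subgroup G} [IsMulCommutative U] [U.Normal]
  (c : Cfg P T U)

include c

theorem isPGroup : IsPGroup p U := P.2.to_le c.UP

theorem comm {v w : G} (hv : v ∈ U) (hw : w ∈ U) : v * w = w * v :=
  congrArg Subtype.val (mul_comm (⟨v, hv⟩ : U) ⟨w, hw⟩)

theorem P_le : (P : Subgroup G) ≤ normalizer (T : Set G) :=
  H75.le_normalizer_of_conj fun s hs t ht => by rw [c.PT s hs t ht, mul_inv_cancel_right]; exact ht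

theorem C_le : centralizer (U : Set G) ≤ normalizer (T : Set G) :=
  H75.le_normalizer_of_conj fun g hg t ht => by
    rw [← mem_centralizer_iff.1 hg t (c.TU ht), mul_inv_cancel_right]
    exact ht

theorem mem_C {g : G} (h : ∀ a : G, ∀ t ∈ T, g * (a * t * a⁻¹) = a * t * a⁻¹ * g) :
    g ∈ centralizer (U : Set G) := by
  have h1 : U ≤ centralizer ({g} : Set G) := c.gen.trans ((Subgroup.closure_le _).2 (by
    rintro _ ⟨a, t, ht, rfl⟩
    exact mem_centralizer_singleton_iff.2 (h a t ht).symm))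
  exact mem_centralizer_iff.2 fun v hv => mem_centralizer_singleton_iff.1 (h1 hv)

theorem normal_le {K : Subgroup G} [K.Normal] (hK : ∀ k ∈ K, ∃ n, k ^ p ^ n ∈ centralizer (U : Set G)) :
    K ≤ centralizer (U : Set G) :=
  normal_le_of_pow_mem P (T := T) c.PT
    (fun _ hg t ht => (mem_centralizer_iff.1 hg t (c.TU ht)).symm) (fun _ hg => c.mem_C hg) hK

theorem rho_eq_one_iff {g : G} : rho p U g = 1 ↔ g ∈ centralizer (U : Set G) := by
  refine ⟨fun h => ?_, fun h => rho_eq_one.2 fun v => ⟨1, ?_⟩⟩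
  · exact c.normal_le (K := (rho p U).ker)
      (fun k hk => exists_pow_centralizing c.isPGroup hk) h
  · refine Subtype.ext ?_
    rw [MulAut.conjNormal_apply, one_pow, mul_one, ← mem_centralizer_iff.1 h v v.2,
      mul_inv_cancel_right]

theorem core_bot : opc p (⊤ : Subgroup (Gp p U)) = ⊥ := by
  set N := opc p (⊤ : Subgroup (Gp p U))
  have : N.Normal := Subgroup.normalizer_eq_top_iff.1 (top_le_iff.1 (le_normalizer_opc _))
  have hK : N.comap (rho p U) ≤ centralizer (U : Set G) := c.normal_le fun k hk => by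
    obtain ⟨n, hn⟩ := opc_isPGroup (p := p) (⊤ : Subgroup (Gp p U)) ⟨_, hk⟩
    refine ⟨n, c.rho_eq_one_iff.1 ?_⟩
    rw [map_pow]
    exact congrArg Subtype.val hn
  refine eq_bot_iff.2 fun h hh => ?_
  obtain ⟨g, rfl⟩ := rho_surjective h
  exact mem_bot.2 (c.rho_eq_one_iff.2 (hK hh))

theorem normalizer_ne_top : normalizer (T : Set G) ≠ ⊤ := fun h =>
  c.notNormal (Subgroup.normalizer_eq_top_iff.1 h)

theorem mem_map_normalizer {g : G} :
    rho p U g ∈ (normalizer (T : Set G)).map (rho p U) ↔ g ∈ normalizer (T : Set G) := by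
  refine ⟨fun h => ?_, fun h => mem_map_of_mem _ h⟩
  obtain ⟨m, hm, hmg⟩ := h
  have h1 : m⁻¹ * g ∈ normalizer (T : Set G) :=
    c.C_le (c.rho_eq_one_iff.1 (by rw [map_mul, map_inv, hmg, inv_mul_cancel]))
  simpa using mul_mem hm h1

theorem map_normalizer_ne_top : (normalizer (T : Set G)).map (rho p U) ≠ ⊤ := fun h =>
  c.normalizer_ne_top (eq_top_iff.2 fun g _ => c.mem_map_normalizer.1 (h ▸ mem_top _))

theorem uniq {Y : Subgroup (Gp p U)} (hPY : (P : Subgroup G).map (rho p U) ≤ Y)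
    (hY : ¬ Y ≤ (normalizer (T : Set G)).map (rho p U)) : Y = ⊤ := by
  have h := c.min (Y.comap (rho p U)) (map_le_iff_le_comap.1 hPY) fun h => hY (by
    intro y hy
    obtain ⟨g, rfl⟩ := rho_surjective y
    exact mem_map_of_mem _ (h hy))
  rw [eq_top_iff]
  intro y _
  obtain ⟨g, rfl⟩ := rho_surjective y
  exact h.ge (mem_top g)

theorem P_fix {s : G} (hs : s ∈ P) {v : U} (hv : (v : G) ∈ T) :
    rho p U s • cls p v = cls p v := by
  rw [smul_cls]
  congr 1
  exact Subtype.ext (by rw [MulAut.conjNormal_apply, c.PT s hs v hv, mul_inv_cancel_right])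

theorem fix_mem (h : Gp p U) (hh : ∀ v : U, (v : G) ∈ T → h • cls p v = cls p v) :
    h ∈ (normalizer (T : Set G)).map (rho p U) := by
  let St : Subgroup (Gp p U) :=
    { carrier := {h | ∀ v : U, (v : G) ∈ T → h • cls p v = cls p v}
      one_mem' := fun v _ => one_smul _ _
      mul_mem' := fun ha hb v hv => by rw [mul_smul, hb v hv, ha v hv]
      inv_mem' := fun ha v hv => by rw [inv_smul_eq_iff, ha v hv] }
  by_contra hn
  have htop : St = ⊤ := c.uniq (by rintro _ ⟨s, hs, rfl⟩ v hv; exact c.P_fix hs hv)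
    fun hle => hn (hle hh)
  let W : Subgroup U :=
    { carrier := {v | ∀ k : Gp p U, k • cls p v = cls p v}
      one_mem' := fun k => by rw [cls_one, smul_zero]
      mul_mem' := fun ha hb k => by rw [cls_mul, smul_add, ha k, hb k]
      inv_mem' := fun ha k => by rw [cls_inv, smul_neg, ha k] }
  have hW : U ≤ W.map U.subtype := c.gen.trans ((Subgroup.closure_le _).2 (by
    rintro _ ⟨a, t, ht, rfl⟩
    refine ⟨MulAut.conjNormal a ⟨t, c.TU ht⟩, fun k => ?_, by simp⟩
    rw [← smul_cls]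
    have hfix : ∀ k : Gp p U, k • cls p ⟨t, c.TU ht⟩ = cls p ⟨t, c.TU ht⟩ := fun k =>
      htop.ge (mem_top k) ⟨t, c.TU ht⟩ ht
    rw [hfix, hfix]))
  refine c.map_normalizer_ne_top (eq_top_iff.2 fun k _ => ?_)
  have h1 : k = 1 := eq_of_smul_eq_smul fun x : Md p U => by
    obtain ⟨v, rfl⟩ := cls_surjective x
    obtain ⟨w, hw, hwv⟩ := hW v.2
    rw [one_smul, ← (Subtype.ext hwv : w = v)]
    exact hw k
  rw [h1]
  exact one_mem _

theorem cls_mem_fx {v : U} (hv : (v : G) ∈ T) :
    cls p v ∈ fx (Md p U) ((P : Subgroup G).map (rho p U)) := by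
  rintro _ ⟨s, hs, rfl⟩
  exact c.P_fix hs hv

theorem hyp : Hyp p (Md p U) ((P : Subgroup G).map (rho p U))
    ((normalizer (T : Set G)).map (rho p U)) where
  two := c.two
  exp := nsmul_md
  Tp := P.2.map _
  TM := map_mono c.P_le
  sylow := ⟨le_top, P.2.map _, by
    rw [relIndex_top_right]
    exact fun h => P.not_dvd_index (h.trans (index_map_dvd _ rho_surjective))⟩
  M_ne := c.map_normalizer_ne_top
  uniq := fun _ h h' => c.uniq h h'
  cent := fun h hh => c.fix_mem h fun _ hv => hh _ (c.cls_mem_fx hv)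
  core := c.core_bot

theorem exists_abelian_not_le : ∃ A, A ∈ H11.maxFam (fun A : Subgroup G => IsMulCommutative A)
    (P : Subgroup G) ∧ ¬ A ≤ centralizer (U : Set G) := by
  by_contra! hall
  refine c.normalizer_ne_top (eq_top_iff.2 ?_)
  obtain ⟨R, hR⟩ := H86.exists_sylow_inf_normal P (centralizer (U : Set G))
  rw [← Sylow.normalizer_sup_eq_top R]
  refine sup_le ?_ c.C_le
  rw [hR, subgroupOf_map_subtype]
  refine le_trans ?_ c.nJ
  intro g hg
  rw [mem_normalizer_iff_cj]
  refine Subgroup.eq_of_le_of_card_ge ?_ (card_cj g _).ge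
  rw [cj_le_iff, H11.thompsonSubgroupAOf_eq]
  refine sSup_le fun A hA => ?_
  rw [← cj_le_iff, ← H11.thompsonSubgroupAOf_eq]
  have h1 : cj g A ≤ (P : Subgroup G) ⊓ centralizer (U : Set G) :=
    (cj_mono (le_inf hA.1 (hall A hA))).trans (mem_normalizer_iff_cj.1 hg).le
  rw [H11.thompsonSubgroupAOf_eq]
  exact le_sSup (α := Subgroup G) ⟨h1.trans inf_le_left, H11.isMulCommutative_map hA.2.1 _,
    fun B hB hB' => (hA.2.2 B hB hB').trans (card_cj g A).ge⟩

/-- The offender, and the fact that it centralises the `p`-th powers. -/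
theorem exists_offender : ∃ A : Subgroup (Gp p U), A ≤ (P : Subgroup G).map (rho p U) ∧ A ≠ ⊥ ∧
    Comm A A ∧ Nat.card (Md p U) ≤ wt (Md p U) A ∧
    ∃ A₀ : Subgroup G, A = A₀.map (rho p U) ∧
      ∀ a ∈ A₀, ∀ v : U, a * (v : G) ^ p * a⁻¹ = (v : G) ^ p := by
  obtain ⟨A₀, ⟨hAP, hAc, hAmax⟩, hAC⟩ := c.exists_abelian_not_le
  set A := A₀.map (rho p U) with hA
  set C := centralizer (U : Set G)
  have hUc : IsMulCommutative U := inferInstance
  have hUC : U ≤ C := fun v hv => mem_centralizer_iff.2 fun w hw => c.comm hw hv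
  -- compare with `(A₀ ∩ C) U`
  have hab : IsMulCommutative ↥(A₀ ⊓ C ⊔ U) :=
    H11.isMulCommutative_sup (H11.isMulCommutative_of_le hAc inf_le_left) hUc
      fun x hx y hy => (mem_centralizer_iff.1 hx.2 y hy).symm
  have h1 := hAmax _ (sup_le (inf_le_left.trans hAP) c.UP) hab
  have h2 := H10.card_mul_card_inf (H := A₀ ⊓ C) (K := U)
    (by rw [Subgroup.normalizer_eq_top]; exact le_top)
  have hker : ((rho p U).comp A₀.subtype).ker = (A₀ ⊓ C).subgroupOf A₀ := by
    ext a
    rw [MonoidHom.mem_ker, mem_subgroupOf, MonoidHom.comp_apply, c.rho_eq_one_iff]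
    exact ⟨fun h => ⟨a.2, h⟩, fun h => h.2⟩
  have h3 : Nat.card A * Nat.card ↥(A₀ ⊓ C) = Nat.card A₀ := by
    rw [card_eq_card_quotient_mul_card_subgroup ((rho p U).comp A₀.subtype).ker,
      Nat.card_congr (QuotientGroup.quotientKerEquivRange _).toEquiv, MonoidHom.range_comp,
      range_subtype, hker, Nat.card_congr (subgroupOfEquivOfLe inf_le_left).toEquiv]
  let CA : AddSubgroup (Additive U) :=
    { carrier := {v | ∀ a ∈ A₀, MulAut.conjNormal a v.toMul = v.toMul}
      zero_mem' := fun a _ => map_one _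
      add_mem' := fun {v w} hv hw a ha => by rw [toMul_add, map_mul, hv a ha, hw a ha]
      neg_mem' := fun {v} hv a ha => by rw [toMul_neg, map_inv, hv a ha] }
  let f : CA →+ Md p U := (QuotientAddGroup.mk' (pw p U)).comp CA.subtype
  have hfle : f.range ≤ fx (Md p U) A := by
    rintro _ ⟨⟨v, hv⟩, rfl⟩ _ ⟨a, ha, rfl⟩
    show rho p U a • cls p v.toMul = cls p v.toMul
    rw [smul_cls, hv a ha]
  have h4 : Nat.card ↥(A₀ ⊓ C ⊓ U) ≤ Nat.card CA := by
    refine Nat.card_le_card_of_injective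
      (fun x => (⟨Additive.ofMul ⟨x.1, x.2.2⟩, fun a ha => Subtype.ext ?_⟩ : CA)) fun x y h => ?_
    · show ((MulAut.conjNormal a ⟨x.1, x.2.2⟩ : U) : G) = x.1
      rw [MulAut.conjNormal_apply]
      exact mul_inv_eq_of_eq_mul (H11.comm_of_mulCommutative hAc ha x.2.1.1).eq
    · exact Subtype.ext (congrArg (fun z : CA => ((z : Additive U).toMul : G)) h)
  have h5 : Nat.card CA = Nat.card f.range * Nat.card f.ker := by
    rw [AddSubgroup.card_eq_card_quotient_mul_card_addSubgroup f.ker,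
      Nat.card_congr (QuotientAddGroup.quotientKerEquivRange f).toEquiv]
  have hkerle : Nat.card f.ker ≤ Nat.card (pw p U) :=
    Nat.card_le_card_of_injective
      (fun z => (⟨(z : CA), (QuotientAddGroup.eq_zero_iff _).1 z.2⟩ : pw p U))
      fun z z' h => Subtype.ext (Subtype.ext (congrArg (fun w : pw p U => (w : Additive U)) h))
  have h6 : Nat.card f.range ≤ Nat.card (fx (Md p U) A) := AddSubgroup.card_le_of_le hfle
  have h7 : Nat.card U ≤ Nat.card A * Nat.card CA := by
    refine Nat.le_of_mul_le_mul_left ?_ (Nat.card_pos (α := ↥(A₀ ⊓ C)))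
    calc Nat.card ↥(A₀ ⊓ C) * Nat.card U
        = Nat.card ↥(A₀ ⊓ C ⊔ U) * Nat.card ↥(A₀ ⊓ C ⊓ U) := h2.symm
      _ ≤ Nat.card A₀ * Nat.card CA := Nat.mul_le_mul h1 h4
      _ = _ := by rw [← h3]; ring
  have h8 : Nat.card (Md p U) * Nat.card (pw p U) ≤
      wt (Md p U) A * Nat.card f.ker := by
    rw [← card_eq, wt]
    calc Nat.card U ≤ Nat.card A * Nat.card CA := h7
      _ ≤ Nat.card A * (Nat.card (fx (Md p U) A) * Nat.card f.ker) := by
        rw [h5]; exact Nat.mul_le_mul_left _ (Nat.mul_le_mul_right _ h6)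
      _ = _ := by ring
  have hw : Nat.card (Md p U) ≤ wt (Md p U) A :=
    Nat.le_of_mul_le_mul_right (h8.trans (Nat.mul_le_mul_left _ hkerle)) Nat.card_pos
  have hcomm : Comm A A := by
    rintro _ ⟨a, ha, rfl⟩ _ ⟨b, hb, rfl⟩
    rw [← map_mul, ← map_mul, (H11.comm_of_mulCommutative hAc ha hb).eq]
  refine ⟨A, map_mono hAP, fun h => hAC fun a ha => c.rho_eq_one_iff.1 ?_, hcomm, hw, A₀, rfl,
    fun a ha v => ?_⟩
  · exact mem_bot.1 (h ▸ mem_map_of_mem _ ha)
  have h9 : Nat.card (pw p U) ≤ Nat.card f.ker :=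
    Nat.le_of_mul_le_mul_left (h8.trans (Nat.mul_le_mul_right _ (c.hyp.wt_le_comm hcomm)))
      Nat.card_pos
  have hinj : Function.Injective
      (fun z : f.ker => (⟨(z : CA), (QuotientAddGroup.eq_zero_iff _).1 z.2⟩ : pw p U)) :=
    fun z z' h => Subtype.ext (Subtype.ext (congrArg (fun w : pw p U => (w : Additive U)) h))
  obtain ⟨z, hz⟩ := ((Nat.bijective_iff_injective_and_card _).2 ⟨hinj, le_antisymm hkerle h9⟩).2
    ⟨p • Additive.ofMul v, Additive.ofMul v, rfl⟩
  have hz' : ((z : CA) : Additive U) = p • Additive.ofMul v :=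
    congrArg (fun w : pw p U => (w : Additive U)) hz
  have h10 := congrArg Subtype.val ((z : CA).2 a ha)
  rw [hz', MulAut.conjNormal_apply] at h10
  simpa using h10

/-- The `p`-th powers of `U` are central. -/
theorem pow_central (v : U) (g : G) : g * (v : G) ^ p * g⁻¹ = (v : G) ^ p := by
  obtain ⟨A, hAP, hne, hcomm, hw, A₀, rfl, hfix⟩ := c.exists_offender
  obtain ⟨D, hD, hDA⟩ := c.hyp.exists_mem_le hAP hcomm hne hw
  let S : Set G := {x | ∃ v : U, (v : G) ^ p = x}
  have hAK : A₀ ≤ centralizer S := fun a ha => mem_centralizer_iff.2 (by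
    rintro _ ⟨v, rfl⟩
    exact (mul_inv_eq_iff_eq_mul.1 (hfix a ha v)).symm)
  have : (centralizer S).Normal := ⟨fun k hk g => mem_centralizer_iff.2 (by
    rintro _ ⟨v, rfl⟩
    have h := mem_centralizer_iff.1 hk _ ⟨MulAut.conjNormal g⁻¹ v, rfl⟩
    rw [MulAut.conjNormal_apply, conj_pow, inv_inv] at h
    calc (v : G) ^ p * (g * k * g⁻¹) = g * (g⁻¹ * (v : G) ^ p * g * k) * g⁻¹ := by group
      _ = g * (k * (g⁻¹ * (v : G) ^ p * g)) * g⁻¹ := by rw [h]
      _ = _ := by group)⟩
  have : ((centralizer S).map (rho p U)).Normal :=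
    Subgroup.Normal.map inferInstance _ rho_surjective
  have hKM := normal_not_le c.hyp (K := (centralizer S).map (rho p U)) hD
    (hDA.trans (map_mono hAK))
  have htop : centralizer S ⊔ (P : Subgroup G) = ⊤ :=
    c.min _ le_sup_right fun h => hKM (map_mono (le_sup_left.trans h))
  have hT : ∀ t ∈ T, ∀ g : G, g * t ^ p = t ^ p * g := by
    intro t ht g
    have hle : centralizer S ⊔ (P : Subgroup G) ≤ centralizer ({t ^ p} : Set G) := by
      refine sup_le (fun k hk => mem_centralizer_singleton_iff.2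
        (mem_centralizer_iff.1 hk _ ⟨⟨t, c.TU ht⟩, rfl⟩).symm) fun s hs =>
          mem_centralizer_singleton_iff.2 (Commute.pow_right (show Commute s t from c.PT s hs t ht) p).eq
    exact mem_centralizer_singleton_iff.1 (hle (htop.ge (mem_top g)))
  let W : Subgroup U :=
    { carrier := {v | (v : G) ^ p ∈ center G}
      one_mem' := by simp
      mul_mem' := fun {a b} ha hb => by
        simp only [Set.mem_ofPred_eq, Subgroup.coe_mul] at *
        rw [Commute.mul_pow (show Commute (a : G) b from c.comm a.2 b.2)]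
        exact mul_mem ha hb
      inv_mem' := fun {a} ha => by
        simp only [Set.mem_ofPred_eq, InvMemClass.coe_inv, inv_pow] at *
        exact inv_mem ha }
  have hW : U ≤ W.map U.subtype := c.gen.trans ((Subgroup.closure_le _).2 (by
    rintro _ ⟨a, t, ht, rfl⟩
    refine ⟨MulAut.conjNormal a ⟨t, c.TU ht⟩, ?_, by simp⟩
    show ((MulAut.conjNormal a (⟨t, c.TU ht⟩ : U) : U) : G) ^ p ∈ center G
    rw [MulAut.conjNormal_apply, conj_pow, hT t ht a, mul_inv_cancel_right]
    exact mem_center_iff.2 fun g => hT t ht g))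
  obtain ⟨w, hw', hwv⟩ := hW v.2
  have h := mem_center_iff.1 hw' g
  rw [show (w : G) = v from hwv] at h
  rw [h, mul_inv_cancel_right]

end Cfg

end H88.WeakClosure
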