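import Mathlib
import Cfsg.Agent.H88.WeakClosure.Setup
import Cfsg.Agent.H85.Model

/-!
The group lemma: in a group of characteristic `p` in which `N(J)` normalises a central subgroup
`T` of a Sylow subgroup but the group does not, an element of order prime to `p` modulo `C(T)`
acts transitively on the nonidentity elements of a subgroup containing `[T, x]`.
-/

set_option autoImplicit false
set_option linter.unusedSectionVars false

open Subgroup H73
open scoped IsMulCommutative MatrixGroups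

namespace H88.WeakClosure

open H80.LFF

universe u

variable {G : Type u} [Group G] {p : ℕ} [Fact p.Prime]

/-- A transitive cyclic automiser. -/
def HasTorus (p : ℕ) {G : Type*} [Group G] (T : Subgroup G) : Prop :=
  ∃ x ∈ normalizer (T : Set G), ∃ W : Subgroup G, W ≤ T ∧ (∃ t ∈ T, x * t * x⁻¹ ≠ t) ∧
    (∃ n : ℕ, n.Coprime p ∧ ∀ t ∈ T, x ^ n * t * (x ^ n)⁻¹ = t) ∧
    (∀ (i : ℕ), ∀ t ∈ T, x ^ i * t * (x ^ i)⁻¹ * t⁻¹ ∈ W) ∧
    ∀ a ∈ W, ∀ b ∈ W, a ≠ 1 → b ≠ 1 → ∃ i : ℕ, x ^ i * a * (x ^ i)⁻¹ = b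

theorem Blk.d_pow_apply {H : Type*} [Group H] [Finite H] {V : Type*} [AddCommGroup V] [Finite V]
    [DistribMulAction H V] [FaithfulSMul H V]
    {A : Subgroup H} (B : Blk V A) (t : B.Fˣ) (n : ℕ) (a b : B.F) (c : fx V B.X) :
    B.d t ^ n • B.e ((a, b), c) =
      B.e ((((t ^ n : B.Fˣ) : B.F) * a, ((t⁻¹ ^ n : B.Fˣ) : B.F) * b), c) := by
  induction n with
  | zero => simp
  | succ n ih =>
    rw [pow_succ', mul_smul, ih, B.d_apply, pow_succ' t, pow_succ' t⁻¹, Units.val_mul,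
      Units.val_mul, mul_assoc, mul_assoc]

namespace Cfg

variable [Finite G] {P : Sylow p G} {T U : Subgroup G} [IsMulCommutative U] [U.Normal]
  (c : Cfg P T U)

include c

theorem hasTorus : HasTorus p T := by
  classical
  have hyp := c.hyp
  obtain ⟨A, hAP, hne, hcomm, hw, -⟩ := c.exists_offender
  obtain ⟨A', hA', -⟩ := hyp.exists_mem_le hAP hcomm hne hw
  obtain ⟨D, hD, hDP, B, hB⟩ := hyp.exists_special hA'
  have hline : ∀ v : U, (v : G) ∈ T → ∃ a e, cls p v = B.e ((a, 0), e) := fun v hv =>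
    B.mem_fx_iff.1 (fx_anti hDP (c.cls_mem_fx hv))
  -- a moved element
  obtain ⟨τ, hτT, a₀, e₀, hτ, ha₀⟩ : ∃ v : U, (v : G) ∈ T ∧
      ∃ a e, cls p v = B.e ((a, 0), e) ∧ a ≠ 0 := by
    by_contra! hno
    refine hB fun k hk => c.fix_mem k fun v hv => ?_
    obtain ⟨a, e, he⟩ := hline v hv
    rw [he, hno v hv a e he, B.coe_eq]
    exact e.2 k hk
  have htwo := B.two_ne hyp.two hyp.exp
  have : CharP B.F p := B.charP hyp.exp
  obtain ⟨g, hg⟩ := IsCyclic.exists_generator (α := B.Fˣ)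
  have hg1 : g ≠ 1 := by
    intro h
    have h1 := hg (-1)
    rw [h, Subgroup.zpowers_one_eq_bot, Subgroup.mem_bot] at h1
    have h2 : ((-1 : B.Fˣ) : B.F) = 1 := by rw [h1, Units.val_one]
    rw [Units.val_neg, Units.val_one] at h2
    exact htwo (by linear_combination -h2)
  have hpow : ∀ u : B.Fˣ, ∃ i : ℕ, g ^ i = u := fun u => by
    obtain ⟨i, hi⟩ := mem_powers_iff_mem_zpowers.2 (hg u)
    exact ⟨i, hi⟩
  obtain ⟨m, hm⟩ := hpow (-1)
  obtain ⟨x, hxM, hx⟩ := d_mem hyp hD hDP B g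
  have hxpow : ∀ (i : ℕ) (a b : B.F) (e : fx (Md p U) B.X),
      rho p U (x ^ i) • B.e ((a, b), e) =
        B.e ((((g ^ i : B.Fˣ) : B.F) * a, ((g⁻¹ ^ i : B.Fˣ) : B.F) * b), e) := fun i a b e => by
    rw [map_pow, hx, Blk.d_pow_apply]
  have hyz : ∀ (a b : B.F) (e : fx (Md p U) B.X),
      rho p U (x ^ m) • B.e ((a, b), e) = B.e ((-a, -b), e) := fun a b e => by
    rw [hxpow, hm, show g⁻¹ ^ m = (-1 : B.Fˣ) by rw [inv_pow, hm, inv_neg, inv_one]]
    simp
  set n := Nat.card B.Fˣ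
  have hn : n.Coprime p := by
    obtain ⟨k, hpk, hk⟩ := FiniteField.card B.F p
    rw [show n = Fintype.card B.F - 1 from (Nat.card_eq_fintype_card).trans (Fintype.card_units _),
      hk, Nat.coprime_comm, (Fact.out : p.Prime).coprime_iff_not_dvd]
    intro hd
    have h1 : p ∣ p ^ (k : ℕ) := dvd_pow_self p k.ne_zero
    have h2 : 1 ≤ p ^ (k : ℕ) := Nat.one_le_pow _ _ (Fact.out : p.Prime).pos
    exact (Fact.out : p.Prime).not_dvd_one (by simpa [Nat.sub_sub_self h2] using Nat.dvd_sub h1 hd)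
  have hxn : x ^ n ∈ centralizer (U : Set G) := by
    refine c.rho_eq_one_iff.1 (B.ext_smul fun a b e => ?_)
    rw [hxpow, one_smul, pow_card_eq_one', pow_card_eq_one']
    simp
  have hxT : ∀ (i : ℕ) {t : G}, t ∈ T → x ^ i * t * (x ^ i)⁻¹ ∈ T := fun i t ht =>
    (mem_normalizer_iff.1 (pow_mem hxM i) t).1 ht
  set y := x ^ m
  let W : Subgroup G :=
    { carrier := {v | v ∈ T ∧ y * v * y⁻¹ = v⁻¹}
      one_mem' := ⟨one_mem _, by simp⟩
      mul_mem' := fun {v w} hv hw => ⟨mul_mem hv.1 hw.1, by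
        rw [show y * (v * w) * y⁻¹ = (y * v * y⁻¹) * (y * w * y⁻¹) by group, hv.2, hw.2,
          mul_inv_rev]
        exact c.comm (inv_mem (c.TU hv.1)) (inv_mem (c.TU hw.1))⟩
      inv_mem' := fun {v} hv => ⟨inv_mem hv.1, by
        rw [show y * v⁻¹ * y⁻¹ = (y * v * y⁻¹)⁻¹ by group, hv.2]⟩ }
  -- the coordinates on `W`
  have hWimg : ∀ (v : G) (hv : v ∈ W), ∃ a, cls p (⟨v, c.TU hv.1⟩ : U) = B.e ((a, 0), 0) := by
    intro v hv
    obtain ⟨a, e, he⟩ := hline ⟨v, c.TU hv.1⟩ hv.1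
    refine ⟨a, ?_⟩
    have h1 : rho p U y • cls p (⟨v, c.TU hv.1⟩ : U) = -cls p (⟨v, c.TU hv.1⟩ : U) := by
      rw [smul_cls, ← cls_inv]
      congr 1
      exact Subtype.ext (by simpa using hv.2)
    rw [he, hyz, ← map_neg] at h1
    obtain ⟨-, -, h2⟩ := B.inj (a' := -a) (b' := -(0 : B.F)) (c' := -e) (h1.trans (by simp))
    rw [he, B.eq_zero_of_eq_neg hyp.two hyp.exp h2]
  have hinj : ∀ (v : G) (hv : v ∈ W), cls p (⟨v, c.TU hv.1⟩ : U) = 0 → v = 1 := by
    intro v hv h0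
    obtain ⟨w, hw⟩ := cls_eq_zero.1 h0
    have hw' : (w : G) ^ p = v := congrArg Subtype.val hw
    have h1 : v = v⁻¹ := by
      rw [← hv.2, ← hw', c.pow_central]
    refine H11.eq_one_of_mem_pGroup_coprime c.isPGroup (c.TU hv.1) ?_
    refine Nat.Coprime.coprime_dvd_left (orderOf_dvd_of_pow_eq_one (n := 2) ?_) ?_
    · rw [pow_two]
      nth_rewrite 2 [h1]
      exact mul_inv_cancel v
    · exact ((Nat.coprime_primes Nat.prime_two Fact.out).2 c.two.symm)
  refine ⟨x, hxM, W, fun v hv => hv.1, ⟨τ, hτT, fun h => ?_⟩,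
    ⟨n, hn, fun t ht => by rw [← mem_centralizer_iff.1 hxn t (c.TU ht), mul_inv_cancel_right]⟩,
    fun i t ht => ⟨mul_mem (hxT i ht) (inv_mem ht), ?_⟩, fun a ha b hb ha1 hb1 => ?_⟩
  · have h1 : rho p U x • cls p τ = cls p τ := by
      rw [smul_cls]
      congr 1
      exact Subtype.ext (by rw [MulAut.conjNormal_apply, h])
    rw [hx, hτ, B.d_apply] at h1
    exact hg1 (Units.ext ((mul_eq_right₀ ha₀).1 (B.inj h1).1))
  · -- `s = t (y t y⁻¹)` is fixed by `x`
    have hy := hxT m ht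
    obtain ⟨a, e, he⟩ := hline ⟨t, c.TU ht⟩ ht
    set s : G := t * (y * t * y⁻¹)
    have hsU : s ∈ U := mul_mem (c.TU ht) (c.TU hy)
    have hs : cls p (⟨s, hsU⟩ : U) = B.e ((0, 0), e + e) := by
      rw [show (⟨s, hsU⟩ : U) = (⟨t, c.TU ht⟩ : U) * MulAut.conjNormal y ⟨t, c.TU ht⟩ from
        Subtype.ext (by simp [s]), cls_mul, ← smul_cls, he, hyz, B.e_add]
      simp
    obtain ⟨w, hw⟩ : ∃ w : U, x * s * x⁻¹ = s * (w : G) ^ p := by
      have h1 : cls p (MulAut.conjNormal x ⟨s, hsU⟩ * (⟨s, hsU⟩ : U)⁻¹) = 0 := by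
        rw [cls_mul, cls_inv, ← smul_cls, hs, hx, B.d_apply]
        simp
      obtain ⟨w, hw⟩ := cls_eq_zero.1 h1
      refine ⟨w, ?_⟩
      have h2 : (w : G) ^ p = x * s * x⁻¹ * s⁻¹ := by
        simpa using congrArg Subtype.val hw
      rw [h2, c.comm hsU ((h2 ▸ (w ^ p : U).2 : x * s * x⁻¹ * s⁻¹ ∈ U)), inv_mul_cancel_right]
    have hsi : ∀ i : ℕ, x ^ i * s * (x ^ i)⁻¹ = s * ((w : G) ^ p) ^ i := by
      intro i
      induction i with
      | zero => simp
      | succ i ih =>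
        rw [show x ^ (i + 1) * s * (x ^ (i + 1))⁻¹ = x * (x ^ i * s * (x ^ i)⁻¹) * x⁻¹ by
          rw [pow_succ']; group, ih,
          show x * (s * ((w : G) ^ p) ^ i) * x⁻¹ =
            (x * s * x⁻¹) * (x * ((w : G) ^ p) ^ i * x⁻¹) by group, hw, ← conj_pow, c.pow_central,
          mul_assoc, ← pow_succ']
    have hw1 : (w : G) ^ p = 1 := by
      have h1 := hsi n
      rw [← mem_centralizer_iff.1 hxn s hsU, mul_inv_cancel_right, left_eq_mul] at h1
      exact H11.eq_one_of_mem_pGroup_coprime c.isPGroup (pow_mem w.2 p)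
        (Nat.Coprime.coprime_dvd_left (orderOf_dvd_of_pow_eq_one h1) hn)
    have hs2 := hsi i
    rw [hw1, one_pow, mul_one] at hs2
    have hc : y * x ^ i = x ^ i * y := (Commute.pow_pow_self x m i).eq
    have h3 := c.comm (c.TU (hxT i (inv_mem ht))) (c.TU ht)
    calc y * (x ^ i * t * (x ^ i)⁻¹ * t⁻¹) * y⁻¹
        = (y * x ^ i) * t * (y * x ^ i)⁻¹ * (y * t * y⁻¹)⁻¹ := by group
      _ = x ^ i * (t⁻¹ * s) * (x ^ i)⁻¹ * (t⁻¹ * s)⁻¹ := by rw [hc]; simp only [s]; group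
      _ = x ^ i * t⁻¹ * (x ^ i)⁻¹ * (x ^ i * s * (x ^ i)⁻¹) * s⁻¹ * t := by group
      _ = x ^ i * t⁻¹ * (x ^ i)⁻¹ * t := by rw [hs2]; group
      _ = t * (x ^ i * t⁻¹ * (x ^ i)⁻¹) := h3
      _ = _ := by group
  · obtain ⟨α, hα⟩ := hWimg a ha
    obtain ⟨β, hβ⟩ := hWimg b hb
    have hα0 : α ≠ 0 := fun h => ha1 (hinj a ha (by rw [hα, h, B.coe_eq]; rfl))
    have hβ0 : β ≠ 0 := fun h => hb1 (hinj b hb (by rw [hβ, h, B.coe_eq]; rfl))
    obtain ⟨i, hi⟩ := hpow (Units.mk0 β hβ0 / Units.mk0 α hα0)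
    refine ⟨i, ?_⟩
    have hmem : x ^ i * a * (x ^ i)⁻¹ ∈ W := ⟨hxT i ha.1, by
      calc y * (x ^ i * a * (x ^ i)⁻¹) * y⁻¹ = (y * x ^ i) * a * (y * x ^ i)⁻¹ := by group
        _ = x ^ i * (y * a * y⁻¹) * (x ^ i)⁻¹ := by
          rw [(Commute.pow_pow_self x m i).eq, mul_inv_rev]; simp only [y, mul_assoc]
        _ = _ := by rw [ha.2]; group⟩
    have h1 := hinj _ (mul_mem hmem (inv_mem hb)) (by
      rw [show (⟨x ^ i * a * (x ^ i)⁻¹ * b⁻¹, c.TU (mul_mem hmem (inv_mem hb)).1⟩ : U) =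
        MulAut.conjNormal (x ^ i) ⟨a, c.TU ha.1⟩ * (⟨b, c.TU hb.1⟩ : U)⁻¹ from
          Subtype.ext (by rw [Subgroup.coe_mul, MulAut.conjNormal_apply, InvMemClass.coe_inv]),
        cls_mul, cls_inv, ← smul_cls, hα, hβ, hxpow, hi]
      simp [hα0])
    exact mul_inv_eq_one.1 h1

end Cfg

theorem map_thompsonA {H : Type*} [Group H] (f : H →* G) (hf : Function.Injective f)
    (Q : Subgroup H) :
    (Cfsg.thompsonSubgroupAOf Q).map f = Cfsg.thompsonSubgroupAOf (Q.map f) :=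
  H74.JA.map_JA f Q (by rw [(MonoidHom.ker_eq_bot_iff f).2 hf]; exact disjoint_bot_right)

/-- **The group lemma.** -/
theorem hasTorus_of_not_normal [Finite G] (hp : p ≠ 2) (P : Sylow p G)
    (hchar : centralizer ((Cfsg.pCore p G : Subgroup G) : Set G) ≤ Cfsg.pCore p G)
    {T : Subgroup G} (hTP : T ≤ (P : Subgroup G)) (hPT : ∀ s ∈ P, ∀ t ∈ T, s * t = t * s)
    (hJ : normalizer (Cfsg.thompsonSubgroupAOf (P : Subgroup G) : Set G) ≤ normalizer (T : Set G))
    (hT : ¬ T.Normal) : HasTorus p T := by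
  obtain ⟨Y, -, hY⟩ := Finite.exists_le_minimal
    (p := fun Y : Subgroup G => (P : Subgroup G) ≤ Y ∧ ¬ Y ≤ normalizer (T : Set G)) (a := ⊤)
    ⟨le_top, fun h => hT (Subgroup.normalizer_eq_top_iff.1 (top_le_iff.1 h))⟩
  obtain ⟨hPY, hYT⟩ := hY.prop
  let P' : Sylow p Y := P.subtype hPY
  have hP' : (P' : Subgroup Y).map Y.subtype = (P : Subgroup G) := by
    rw [Sylow.coe_subtype, map_subgroupOf_eq_of_le hPY]
  set T' := T.subgroupOf Y
  have hTY : T ≤ Y := hTP.trans hPY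
  have hTmap : T'.map Y.subtype = T := map_subgroupOf_eq_of_le hTY
  have hnorm : ∀ g : Y, (g : G) ∈ normalizer (T : Set G) ↔ g ∈ normalizer (T' : Set Y) := fun g => by
    rw [mem_normalizer_iff_cj, mem_normalizer_iff_cj]
    constructor
    · intro h
      refine Subgroup.eq_of_le_of_card_ge (fun z hz => ?_) (card_cj g T').ge
      rw [mem_cj] at hz
      show (z : G) ∈ T
      rw [← h, mem_cj]
      exact hz
    · intro h
      refine Subgroup.eq_of_le_of_card_ge (fun z hz => ?_) (card_cj (g : G) T).ge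
      rw [mem_cj] at hz
      have hzY : z ∈ Y := by
        simpa [mul_assoc] using Y.mul_mem (Y.mul_mem g.2 (hTY hz)) (Y.inv_mem g.2)
      have h1 : (⟨z, hzY⟩ : Y) ∈ cj g T' := mem_cj.2 hz
      rw [h] at h1
      exact h1
  set Q := Cfsg.pCore p G
  have : Q.Normal := H1.pCore_normal' p G
  have hQY : Q ≤ Y := (H85.pCore_le_sylow' P).trans hPY
  have hQ' : Q.subgroupOf Y ≤ Cfsg.pCore p Y :=
    H1.le_pCore ((H1.isPGroup_pCore p G).comap_subtype)
  have hchar' : centralizer ((Cfsg.pCore p Y : Subgroup Y) : Set Y) ≤ Cfsg.pCore p Y := by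
    intro g hg
    refine hQ' (hchar (mem_centralizer_iff.2 fun q hq => ?_))
    exact congrArg Subtype.val (mem_centralizer_iff.1 hg _ (hQ' (show (⟨q, hQY hq⟩ : Y) ∈ Q.subgroupOf Y from hq)))
  set O := Cfsg.pCore p Y
  have : O.Normal := H1.pCore_normal' p Y
  have hTc : ∀ s ∈ P', ∀ t ∈ T', s * t = t * s := fun s hs t ht => Subtype.ext
    (hPT _ (show (s : G) ∈ P from hs) _ ht)
  have hTO : T' ≤ O ⊓ centralizer (O : Set Y) := fun t ht => by
    have h : t ∈ centralizer (O : Set Y) := mem_centralizer_iff.2 fun q hq =>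
      hTc q (H85.pCore_le_sylow' P' hq) t ht
    exact ⟨hchar' h, h⟩
  set U := Subgroup.normalClosure (T' : Set Y)
  have hUO : U ≤ O ⊓ centralizer (O : Set Y) := Subgroup.normalClosure_le_normal hTO
  have : IsMulCommutative U := H11.isMulCommutative_of_commute fun a ha b hb =>
    mem_centralizer_iff.1 (hUO hb).2 a (hUO ha).1
  have c : Cfg P' T' U :=
    { two := hp
      TP := fun t ht => hTP ht
      PT := hTc
      TU := Subgroup.le_normalClosure
      UP := hUO.trans (inf_le_left.trans (H85.pCore_le_sylow' P'))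
      gen := (Subgroup.closure_le _).2 fun z hz => by
        obtain ⟨t, ht, hconj⟩ := Group.mem_conjugatesOfSet_iff.1 hz
        obtain ⟨g, rfl⟩ := isConj_iff.1 hconj
        exact Subgroup.subset_closure ⟨g, t, ht, rfl⟩
      notNormal := fun h => hYT fun g hg => (hnorm ⟨g, hg⟩).2 (by
        have := h
        rw [Subgroup.normalizer_eq_top]
        exact mem_top _)
      nJ := fun g hg => (hnorm g).1 (hJ (by
        rw [← hP', ← map_thompsonA Y.subtype Y.subtype_injective, mem_normalizer_iff_cj]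
        rw [mem_normalizer_iff_cj] at hg
        show cj (Y.subtype g) _ = _
        refine Eq.trans ?_ (congrArg (Subgroup.map Y.subtype) hg)
        rw [cj, cj, Subgroup.map_map, Subgroup.map_map]
        congr 1))
      min := fun Z hPZ hZ => by
        have h1 : Z.map Y.subtype = Y := le_antisymm (map_subtype_le Z)
          (hY.le_of_le ⟨hP' ▸ map_mono hPZ, fun h => hZ fun z hz =>
            (hnorm z).1 (h (mem_map_of_mem _ hz))⟩ (map_subtype_le Z))
        exact map_injective Y.subtype_injective (h1.trans (by rw [← MonoidHom.range_eq_map, range_subtype])) }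
  obtain ⟨x, hx, W, hWT, ⟨t, ht, hne⟩, ⟨n, hn, hfix⟩, hcomm, htrans⟩ := c.hasTorus
  refine ⟨x, (hnorm x).2 hx, W.map Y.subtype, hTmap ▸ map_mono hWT,
    ⟨t, ht, fun h => hne (Subtype.ext h)⟩,
    ⟨n, hn, fun t ht => congrArg Subtype.val (hfix ⟨t, hTY ht⟩ ht)⟩,
    fun i t ht => ⟨_, hcomm i ⟨t, hTY ht⟩ ht, rfl⟩, ?_⟩
  rintro _ ⟨a, ha, rfl⟩ _ ⟨b, hb, rfl⟩ ha1 hb1
  obtain ⟨i, hi⟩ := htrans a ha b hb (fun h => ha1 (by rw [h, map_one]))
    (fun h => hb1 (by rw [h, map_one]))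
  exact ⟨i, congrArg Subtype.val hi⟩

end H88.WeakClosure
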