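import Mathlib
import Cfsg.Agent.H85.Normal
import Cfsg.Agent.H86.Induction
import Cfsg.Agent.H85.ModelExists
import Cfsg.Agent.H86.RadicalModel
import Cfsg.Agent.H88.ThompsonTransport
import Cfsg.Agent.H89.CentralEltApps
import Cfsg.Agent.H89.Generation
import Cfsg.Agent.H74.ThompsonABasic

/-!
A central subgroup `T` that is not weakly closed, while the normalizer system of `J(S)` normalises
it, is moved by the model of a normalizer system in which the normalizer of the Thompson subgroup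
of the Sylow subgroup normalises it.
-/

set_option autoImplicit false
set_option linter.style.haveILetI false

open Cfsg Cfsg.FusionSystem

universe u

namespace H88.WeakClosure

variable {Ω : Type u} [Group Ω] {S : Subgroup Ω}

theorem le_normalizer_of_central {T : Subgroup Ω} (hT : T ≤ S ⊓ Subgroup.centralizer (S : Set Ω)) :
    ∀ g ∈ S, g ∈ Subgroup.normalizer (T : Set Ω) := by
  intro g hg
  rw [Subgroup.mem_normalizer_iff]
  have hc : ∀ t ∈ T, g * t = t * g := fun t ht => Subgroup.mem_centralizer_iff.1 (hT ht).2 g hg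
  refine fun t => ⟨fun ht => by rw [hc t ht, mul_inv_cancel_right]; exact ht, fun ht => ?_⟩
  have h := hc _ ht
  have : t = g * t * g⁻¹ := by
    have h2 := congrArg (fun z => g⁻¹ * z) h
    simpa [mul_assoc] using h2.symm
  rw [this]
  exact ht

variable {F : FusionSystem S} {T : Subgroup Ω}

/-- The maps normalising `T`. -/
abbrev stabSystem (F : FusionSystem S) (hT : T ≤ S ⊓ Subgroup.centralizer (S : Set Ω)) :
    FusionSystem S :=
  H85.normalizerSystemTop F T (hT.trans inf_le_left) (le_normalizer_of_central hT)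

variable (hT : T ≤ S ⊓ Subgroup.centralizer (S : Set Ω))

theorem img_eq_of_stable [Finite S] {P : Subgroup Ω} {φ : P →* Ω} (hφ : φ ∈ F.Hom P) (hTP : T ≤ P)
    (h : ∀ t : P, (t : Ω) ∈ T → φ t ∈ T) : H85.img φ T = T := by
  haveI : Finite T := H85.finite_of_le (hTP.trans (H85.source_le hφ))
  refine Subgroup.eq_of_le_of_card_ge (fun y hy => ?_) (le_of_eq ?_)
  · obtain ⟨x, hx, rfl⟩ := H85.mem_img.1 hy
    exact h x hx
  · rw [H85.img, Subgroup.card_map_of_injective (F.injective_of_mem hφ),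
      Nat.card_congr (Subgroup.subgroupOfEquivOfLe hTP).toEquiv]

theorem mem_stab [Finite S] {P : Subgroup Ω} {φ : P →* Ω} (hφ : φ ∈ F.Hom P) (hTP : T ≤ P)
    (h : ∀ t : P, (t : Ω) ∈ T → φ t ∈ T) : φ ∈ (stabSystem F hT).Hom P := by
  refine H85.mem_normalizerHom.2 ⟨hφ, fun x hx => ⟨H85.source_le hφ hx,
      le_normalizer_of_central hT _ (H85.source_le hφ hx)⟩,
    fun x => ⟨H85.map_mem hφ x, le_normalizer_of_central hT _ (H85.map_mem hφ x)⟩, _,
    H85.restrict hφ (sup_le le_rfl hTP), fun x => rfl, ?_⟩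
  exact img_eq_of_stable (H85.restrict hφ (sup_le le_rfl hTP)) le_sup_right fun t ht => h _ ht

theorem stable_of_normalizerHom {P : Subgroup Ω} {φ : P →* Ω} (hφ : φ ∈ F.normalizerHom T P)
    {t : P} (ht : (t : Ω) ∈ T) : φ t ∈ T := by
  obtain ⟨-, -, -, ψ, -, hψ, himg⟩ := H85.mem_normalizerHom.1 hφ
  rw [← hψ t]
  exact himg.le (H85.apply_mem_img ht)

theorem stable_of_mem_stab {P : Subgroup Ω} {φ : P →* Ω} (hφ : φ ∈ (stabSystem F hT).Hom P)
    {t : P} (ht : (t : Ω) ∈ T) : φ t ∈ T :=
  stable_of_normalizerHom hφ ht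

include hT

theorem le_centralizerIn {P : Subgroup Ω} (hP : P ≤ S) : T ≤ centralizerIn S P := fun _ ht =>
  H85.mem_centralizerIn.2 ⟨(hT ht).1,
    fun y hy => Subgroup.mem_centralizer_iff.1 (hT ht).2 y (hP hy)⟩

theorem le_thompsonAOf [Finite S] {N : Subgroup Ω} (hN : N ≤ S) (hTN : T ≤ N) :
    T ≤ Cfsg.thompsonSubgroupAOf N := by
  haveI : Finite N := H85.finite_of_le hN
  intro t ht
  exact ⟨⟨t, hTN ht⟩, H89.center_le_thompsonA N (Subgroup.mem_center_iff.2 fun g =>
    Subtype.ext (Subgroup.mem_centralizer_iff.1 (hT ht).2 g (hN g.2))), rfl⟩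

variable
    (hJT : ∀ NJ : FusionSystem (normalizerIn S (Cfsg.thompsonSubgroupAOf S)),
      F.IsNormalizerSystem (Cfsg.thompsonSubgroupAOf S) NJ →
      ∀ NT : FusionSystem (normalizerIn S T), F.IsNormalizerSystem T NT → NJ.IsSubsystemOf NT)

include hJT

/-- Maps of `J(S)` into itself normalise `T`. -/
theorem stable_of_J [Finite S] (φ : ↥(Cfsg.thompsonSubgroupAOf S) →* Ω)
    (hφ : φ ∈ F.Hom (Cfsg.thompsonSubgroupAOf S)) (hval : ∀ x, φ x ∈ Cfsg.thompsonSubgroupAOf S)
    {t : ↥(Cfsg.thompsonSubgroupAOf S)} (ht : (t : Ω) ∈ T) : φ t ∈ T := by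
  have hJS : Cfsg.thompsonSubgroupAOf S ≤ S := Subgroup.map_subtype_le _
  haveI : Finite ↥(Cfsg.thompsonSubgroupAOf S) := H85.finite_of_le hJS
  refine stable_of_normalizerHom (F := F) ?_ ht
  have h := hJT _ (H85.normalizerSystem_spec F _ hJS) _
    (H85.normalizerSystem_spec F T (hT.trans inf_le_left)) (Cfsg.thompsonSubgroupAOf S)
  refine h (H85.mem_normalizerHom.2 ⟨hφ, H85.le_normalizerIn hJS,
    fun x => H85.le_normalizerIn hJS (hval x), _, H85.restrict hφ (sup_le le_rfl le_rfl),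
    fun x => rfl, ?_⟩)
  refine Subgroup.eq_of_le_of_card_ge (fun y hy => ?_) (le_of_eq ?_)
  · obtain ⟨x, -, rfl⟩ := H85.mem_img.1 hy
    exact hval _
  · rw [H85.img, Subgroup.card_map_of_injective
      (F.injective_of_mem (H85.restrict hφ (sup_le le_rfl le_rfl))),
      Nat.card_congr (Subgroup.subgroupOfEquivOfLe le_sup_right).toEquiv]

/-- Automorphisms of `S` normalise `T`. -/
theorem aut_top_stab [Finite S] {α : MulAut S} (hα : α ∈ F.autGroup S) :
    H85.IsFIso (stabSystem F hT) α := by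
  have hα' := (H85.mem_autGroup le_rfl).1 hα
  refine mem_stab hT hα' (hT.trans inf_le_left) fun t ht => ?_
  have hJS : Cfsg.thompsonSubgroupAOf S ≤ S := Subgroup.map_subtype_le _
  have htJ := le_thompsonAOf hT le_rfl (hT.trans inf_le_left) ht
  have h := stable_of_J hT hJT _ (H85.restrict hα' hJS) (fun x => ?_) (t := ⟨t, htJ⟩) ht
  · exact h
  · obtain ⟨y, hy, hyx⟩ := x.2
    refine ⟨α y, ?_, ?_⟩
    · rw [← thompsonSubgroupA_equiv α]
      exact ⟨y, hy, rfl⟩
    · show ((α y : S) : Ω) = ((α (Subgroup.inclusion hJS x) : S) : Ω)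
      rw [show Subgroup.inclusion hJS x = y from Subtype.ext hyx.symm]

/-- If the automorphisms of the subgroups with normalizer above `m` normalise `T`, then so do the
maps with source of order at least `m`. -/
theorem maps_stab [Finite S] {p : ℕ} [Fact p.Prime] (hS : IsPGroup p S) (hF : F.IsSaturated p)
    {m : ℕ} (h : ∀ U : Subgroup Ω, T ≤ U → U ≤ S → m < Nat.card (normalizerIn S U) →
      ∀ α ∈ F.autGroup U, H85.IsFIso (stabSystem F hT) α)
    {P : Subgroup Ω} (hm : m ≤ Nat.card P) {φ : P →* Ω} (hφ : φ ∈ F.Hom P) :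
    φ ∈ (stabSystem F hT).Hom P := by
  refine H86.induction_within hS hF (H86.stronglyClosed_self F)
    (fun P φ => m ≤ Nat.card P → φ ∈ (stabSystem F hT).Hom P) ?_ ?_ ?_ ?_ P (H85.source_le hφ) φ
    hφ hm
  · intro P Q φ hPQ hQ _ hC hmP
    haveI := H85.finite_of_le hQ
    exact H85.restrict (hC (hmP.trans (Subgroup.card_le_of_le hPQ))) hPQ
  · intro P Q R e e' _ _ _ _ _ h1 h2 hmP
    exact H85.IsFIso.trans (F := stabSystem F hT) (h1 hmP)
      (h2 (hmP.trans (Nat.card_congr e.toEquiv).le))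
  · intro P Q e _ _ _ h1 hmQ
    exact H85.IsFIso.symm (F := stabSystem F hT) (h1 (hmQ.trans (Nat.card_congr e.toEquiv).ge))
  · intro U hU hUn key α hα hmU
    rcases eq_or_ne U S with rfl | hne
    · exact aut_top_stab hT hJT hα
    by_cases hTU : T ≤ U
    · exact h U hTU hU (lt_of_le_of_lt hmU (H89.card_lt_normalizerIn hS hU hne)) α hα
    · obtain ⟨ψ, hψ, hext⟩ := H85.receptive_extend (H85.receptive_of_fullyNormalized hS hF hUn)
        ((H85.mem_autGroup hU).1 hα)
      have hUD := H85.le_extender hU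
        (φ := U.subtype.comp α.toMonoidHom) (fun x => hU (α x).2)
      have hTD : T ≤ extender S U (U.subtype.comp α.toMonoidHom) :=
        (le_centralizerIn hT hU).trans (H85.centralizerIn_le_extender U _)
      have hlt : U < extender S U (U.subtype.comp α.toMonoidHom) :=
        lt_of_le_of_ne hUD fun e => hTU (hTD.trans e.ge)
      have hcard := H89.card_lt_of_lt (H85.extender_le _ _) hlt
      exact H85.of_extend (key _ (H85.extender_le _ _) hcard ψ hψ (hmU.trans hcard.le)) hUD
        fun x => hext x x.2 _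

/-- **The descent.** -/
theorem exists_model_moving [Finite S] {p : ℕ} [Fact p.Prime] (hS : IsPGroup p S)
    (hF : F.IsSaturated p) (hnwc : ¬ F.WeaklyClosed T) :
    ∃ (Q : Subgroup Ω) (hQ : Q ≤ S) (L : Type u) (_ : Group L) (_ : Finite L)
      (ι : ↥(normalizerIn S Q) →* L) (P : Sylow p L) (_ : T ≤ normalizerIn S Q),
      (H85.normalizerSystem F Q hQ).IsRealizedBy ι ∧ (P : Subgroup L) = ι.range ∧
      Subgroup.centralizer ((Cfsg.pCore p L : Subgroup L) : Set L) ≤ Cfsg.pCore p L ∧
      ¬ (H85.rimg ι T).Normal ∧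
      Subgroup.normalizer (Cfsg.thompsonSubgroupAOf ι.range : Set L) ≤
        Subgroup.normalizer (H85.rimg ι T : Set L) := by
  classical
  have hTS : T ≤ S := hT.trans inf_le_left
  set Bad : Set (Subgroup Ω) := {Q | T ≤ Q ∧ Q ≤ S ∧
    ∃ α ∈ F.autGroup Q, ¬ H85.IsFIso (stabSystem F hT) α}
  have hfin : Bad.Finite := by
    refine Set.Finite.subset (Set.finite_range (fun R : Subgroup S => R.map S.subtype)) ?_
    exact fun Q hQ => ⟨Q.subgroupOf S, Subgroup.map_subgroupOf_eq_of_le hQ.2.1⟩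
  have hne : Bad.Nonempty := by
    by_contra hempty
    refine hnwc ⟨hTS, fun φ hφ => ?_⟩
    have h := maps_stab hT hJT hS hF (m := 0) (fun U hTU hU _ α hα => by_contra fun hbad =>
      hempty ⟨U, hTU, hU, α, hα, hbad⟩) (Nat.zero_le _) hφ
    have := img_eq_of_stable hφ le_rfl fun t ht => stable_of_mem_stab hT h ht
    rwa [H85.img_self] at this
  obtain ⟨Q₁, ⟨hTQ₁, hQ₁, α, hα, hbad⟩, hmax⟩ := Set.exists_max_image Bad
    (fun Q => Nat.card (normalizerIn S Q) * (Nat.card S + 1) + Nat.card Q) hfin hne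
  haveI : Finite ↥(normalizerIn S Q₁) := H85.finite_of_le (H85.normalizerIn_le Q₁)
  set m := Nat.card (normalizerIn S Q₁)
  have hbig : ∀ U : Subgroup Ω, T ≤ U → U ≤ S →
      (m < Nat.card (normalizerIn S U) ∨
        m ≤ Nat.card (normalizerIn S U) ∧ Nat.card Q₁ < Nat.card U) →
      ∀ β ∈ F.autGroup U, H85.IsFIso (stabSystem F hT) β := by
    intro U hTU hU hor β hβ
    by_contra hb
    have h1 := hmax U ⟨hTU, hU, β, hβ, hb⟩
    have h2 : Nat.card Q₁ ≤ Nat.card S := Subgroup.card_le_of_le hQ₁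
    rcases hor with h3 | ⟨h3, h4⟩
    · have h5 : (m + 1) * (Nat.card S + 1) ≤ Nat.card (normalizerIn S U) * (Nat.card S + 1) :=
        Nat.mul_le_mul_right _ h3
      rw [add_mul, one_mul] at h5
      omega
    · have h5 : m * (Nat.card S + 1) ≤ Nat.card (normalizerIn S U) * (Nat.card S + 1) :=
        Nat.mul_le_mul_right _ h3
      omega
  obtain ⟨Q, hQ, hQn⟩ := H85.exists_fullyNormalized F hQ₁
  obtain ⟨χ, hχ, -, himg⟩ := H85.exists_map_to_fullyNormalized hS hF hQn hQ
  have hχE := maps_stab hT hJT hS hF (m := m) (fun U h1 h2 h3 => hbig U h1 h2 (Or.inl h3)) le_rfl hχ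
  have hle := H85.le_normalizerIn (S := S) hQ₁
  let e : Q₁ ≃* Q := (H85.resIso χ (F.injective_of_mem hχ) hle).trans (MulEquiv.subgroupCongr himg)
  have he : H85.IsFIso F e := H85.of_extend hχ hle fun x => rfl
  have heE : H85.IsFIso (stabSystem F hT) e := H85.of_extend hχE hle fun x => rfl
  set β : MulAut Q := e.symm.trans (α.trans e) with hβdef
  have hβ : β ∈ F.autGroup Q := (H85.mem_autGroup hQn.1).2
    (he.symm.trans (((H85.mem_autGroup hQ₁).1 hα).trans he))
  have hβbad : ¬ H85.IsFIso (stabSystem F hT) β := fun h => hbad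
    (((heE.trans h).trans heE.symm).congr fun x => by simp [hβdef])
  have hTQ : T ≤ Q := by
    intro t ht
    have h1 := img_eq_of_stable (P := Q₁) (φ := Q.subtype.comp e.toMonoidHom) he hTQ₁
      fun s hs => stable_of_mem_stab hT heE hs
    rw [← h1] at ht
    obtain ⟨x, -, rfl⟩ := H85.mem_img.1 ht
    exact (e x).2
  have hmQ : m ≤ Nat.card (normalizerIn S Q) := hQn.2 Q₁ (H85.isConj_symm hQ)
  have hmQ' : Nat.card (normalizerIn S Q) = m := by
    refine le_antisymm (not_lt.1 fun h => hβbad (hbig Q hTQ hQn.1 (Or.inl h) β hβ)) hmQ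
  -- `Q` is centric
  have hQc : centralizerIn S Q ≤ Q := by
    by_contra hcen
    obtain ⟨ψ, hψ, hext⟩ := H85.receptive_extend (H85.receptive_of_fullyNormalized hS hF hQn)
      ((H85.mem_autGroup hQn.1).1 hβ)
    set R := Q ⊔ centralizerIn S Q with hR
    have hQD := H85.le_extender hQn.1 (φ := Q.subtype.comp β.toMonoidHom) fun x => hQn.1 (β x).2
    have hRD : R ≤ extender S Q (Q.subtype.comp β.toMonoidHom) :=
      sup_le hQD (H85.centralizerIn_le_extender Q _)
    have hRS : R ≤ S := sup_le hQn.1 (H85.centralizerIn_le Q)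
    haveI := H85.finite_of_le hRS
    have himgR : H85.img ψ R = R := by
      refine Subgroup.eq_of_le_of_card_ge ?_ (le_of_eq (by
        rw [H85.img, Subgroup.card_map_of_injective (F.injective_of_mem hψ),
          Nat.card_congr (Subgroup.subgroupOfEquivOfLe hRD).toEquiv]))
      rintro y hy
      obtain ⟨z, hz, rfl⟩ := H85.mem_img.1 hy
      have hle' : R ≤ (R.comap ψ).map (extender S Q (Q.subtype.comp β.toMonoidHom)).subtype := by
        refine sup_le (fun q hq => ⟨⟨q, hQD hq⟩, ?_, rfl⟩) (fun c hc =>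
          ⟨⟨c, hRD (Subgroup.mem_sup_right hc)⟩, ?_, rfl⟩)
        · show ψ _ ∈ R
          rw [hext q hq (hQD hq)]
          exact Subgroup.mem_sup_left (β _).2
        · exact Subgroup.mem_sup_right (H85.extend_maps_centralizer hQD (fun q => hext q q.2 _)
            (H85.map_mem hψ _) hc)
      obtain ⟨w, hw, hwz⟩ := hle' hz
      exact (Subtype.ext hwz : w = z) ▸ hw
    let γ : MulAut R := (H85.resIso ψ (F.injective_of_mem hψ) hRD).trans
      (MulEquiv.subgroupCongr himgR)
    have hγ : γ ∈ F.autGroup R := (H85.mem_autGroup hRS).2 (H85.of_extend hψ hRD fun y => rfl)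
    have hlt : Nat.card Q₁ < Nat.card R := by
      rw [H85.isConj_card hQ]
      exact H89.card_lt_of_lt hRS (left_lt_sup.2 hcen)
    have hNN : normalizerIn S Q ≤ normalizerIn S R := by
      intro g hg
      refine ⟨hg.1, H85.mem_normalizer_of_conj fun y hy => ?_⟩
      have hle' : R ≤ R.comap (MulAut.conj g).toMonoidHom := by
        refine sup_le (fun q hq => Subgroup.mem_sup_left
          (H85.conj_mem_of_mem_normalizer hg.2 hq)) (fun c hc => Subgroup.mem_sup_right
          (H85.mem_centralizerIn.2 ⟨S.mul_mem (S.mul_mem hg.1 hc.1) (S.inv_mem hg.1),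
            fun q hq => ?_⟩))
        have := (H85.mem_centralizerIn.1 hc).2 _ (H85.conj_mem_of_mem_normalizer' hg.2 hq)
        show q * (g * c * g⁻¹) = g * c * g⁻¹ * q
        calc q * (g * c * g⁻¹) = g * ((g⁻¹ * q * g) * c) * g⁻¹ := by group
          _ = g * (c * (g⁻¹ * q * g)) * g⁻¹ := by rw [this]
          _ = g * c * g⁻¹ * q := by group
      exact hle' hy
    haveI : Finite ↥(normalizerIn S R) := H85.finite_of_le (H85.normalizerIn_le R)
    have hγE := hbig R (hTQ.trans le_sup_left) hRS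
      (Or.inr ⟨hmQ.trans (Subgroup.card_le_of_le hNN), hlt⟩) γ hγ
    exact hβbad (H85.of_extend (Q := R) hγE le_sup_left fun x => hext x x.2 _)
  -- the model
  have hQc' : F.IsCentric Q := H85.centric_of_fullyCentralized hS hF
    (H85.fullyCentralized_of_fullyNormalized hS hF hQn) hQc
  set N := normalizerIn S Q with hNdef
  have hNS : N ≤ S := H85.normalizerIn_le Q
  have hE := H85.normalizerSystem_spec F Q hQn.1
  haveI : Finite N := H85.finite_of_le hNS
  obtain ⟨L, _, ι, hL⟩ := H85.exists_model_of_constrained (hS.to_le hNS)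
    (H86.normalizerSystem_constrained hS hF hQn hQc' hE).1
  obtain ⟨hfin, hreal, ⟨P, hP⟩, hch⟩ := hL
  have hQN : Q ≤ N := H85.le_normalizerIn hQn.1
  have hTN : T ≤ N := hTQ.trans hQN
  refine ⟨Q, hQn.1, L, _, hfin, ι, P, hTN, hreal, hP, hch, fun hn => hβbad ?_, ?_⟩
  · -- if `T` were normal, `β` would normalise it
    refine mem_stab hT ((H85.mem_autGroup hQn.1).1 hβ) hTQ fun t ht => ?_
    have hmem : Q.subtype.comp β.toMonoidHom ∈ (H85.normalizerSystem F Q hQn.1).Hom Q := by
      refine H85.mem_normalizerHom.2 ⟨(H85.mem_autGroup hQn.1).1 hβ, hQN, fun y => hQN (β y).2, _,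
        H85.restrict ((H85.mem_autGroup hQn.1).1 hβ) (sup_le le_rfl le_rfl), fun y => rfl, ?_⟩
      refine le_antisymm ?_ ?_
      · intro y hy
        obtain ⟨z, -, rfl⟩ := H85.mem_img.1 hy
        exact (β _).2
      · intro y hy
        obtain ⟨z, hz⟩ := β.surjective ⟨y, hy⟩
        exact H85.mem_img.2 ⟨⟨(z : Ω), Subgroup.mem_sup_right z.2⟩, z.2, congrArg Subtype.val hz⟩
    obtain ⟨g, hg⟩ := H85.exists_conj_of_hom hreal hmem
    have h1 := hn.conj_mem _ ((H85.apply_mem_rimg hreal.1 (x := ⟨t, hQN t.2⟩)).2 ht) g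
    rw [← hg t] at h1
    exact (H85.apply_mem_rimg hreal.1).1 h1
  · intro g hg
    set J := Cfsg.thompsonSubgroupAOf N
    have hJN : J ≤ N := Subgroup.map_subtype_le _
    have hrimg : H85.rimg ι J = Cfsg.thompsonSubgroupAOf ι.range := by
      rw [H85.rimg, show J.subgroupOf N = Cfsg.thompsonSubgroupA N from
        Subgroup.comap_map_eq_self_of_injective N.subtype_injective _, Cfsg.thompsonSubgroupAOf,
        ← thompsonSubgroupA_equiv (MonoidHom.ofInjective hreal.1), Subgroup.map_map]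
      rfl
    rw [← hrimg] at hg
    obtain ⟨φ, hφ, hφN, hφx⟩ := H85.exists_hom_of_conj hreal hJN g fun x =>
      H85.rimg_le_range ι J (H85.conj_mem_of_mem_normalizer hg
        ((H85.apply_mem_rimg hreal.1).2 x.2))
    have hφF : φ ∈ F.Hom J := (H85.mem_normalizerHom.1 ((hE J) ▸ hφ)).1
    have hφJ : ∀ x, φ x ∈ J := fun x => by
      have := H85.conj_mem_of_mem_normalizer hg
        ((H85.apply_mem_rimg hreal.1 (x := ⟨x, hJN x.2⟩)).2 x.2)
      rw [← hφx x] at this
      exact (H85.apply_mem_rimg hreal.1).1 this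
    have hTJ : T ≤ J := le_thompsonAOf hT hNS hTN
    have hst : ∀ t : J, (t : Ω) ∈ T → φ t ∈ T := by
      by_cases hNeq : N = S
      · have hJeq : J = Cfsg.thompsonSubgroupAOf S := by simp only [J, hNeq]
        have key : ∀ (X : Subgroup Ω), X = Cfsg.thompsonSubgroupAOf S → ∀ φ : X →* Ω,
            φ ∈ F.Hom X → (∀ x, φ x ∈ X) → ∀ t : X, (t : Ω) ∈ T → φ t ∈ T := by
          rintro X rfl φ hφ hv t ht
          exact stable_of_J hT hJT φ hφ hv ht
        exact key J hJeq φ hφF hφJ
      · have hJS : J ≤ S := hJN.trans hNS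
        haveI := H85.finite_of_le hJS
        haveI : Finite ↥(normalizerIn S J) := H85.finite_of_le (H85.normalizerIn_le J)
        have hlt : m < Nat.card (normalizerIn S J) := by
          rw [← hmQ']
          refine lt_of_lt_of_le (H89.card_lt_normalizerIn hS hNS hNeq) (Subgroup.card_le_of_le ?_)
          exact le_inf inf_le_left (inf_le_right.trans (H74.JA.normalizer_le_normalizer_JA N))
        have hr : φ.range = J := Subgroup.eq_of_le_of_card_ge
          (by rintro _ ⟨x, rfl⟩; exact hφJ x)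
          (le_of_eq (Nat.card_congr (MonoidHom.ofInjective (F.injective_of_mem hφF)).toEquiv))
        have h1 := hbig J hTJ hJS (Or.inl hlt) (H85.isoOf φ hφF hr)
          ((H85.mem_autGroup hJS).2 (H85.isFIso_isoOf φ hφF hr))
        exact fun t ht => stable_of_mem_stab hT h1 ht
    haveI : Finite T := H85.finite_of_le hTS
    refine H73.mem_normalizer_iff_cj.2 (Subgroup.eq_of_le_of_card_ge ?_ (H73.card_cj g _).ge)
    rintro _ ⟨y, hy, rfl⟩
    obtain ⟨x, hx, rfl⟩ := H85.mem_rimg.1 hy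
    have h1 := hφx ⟨x, hTJ hx⟩
    show MulAut.conj g (ι x) ∈ _
    rw [MulAut.conj_apply, show g * ι x * g⁻¹ = ι ⟨φ ⟨x, hTJ hx⟩, hφN _⟩ from h1.symm]
    exact (H85.apply_mem_rimg hreal.1).2 (hst ⟨x, hTJ hx⟩ hx)

end H88.WeakClosure
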